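import Cfsg.Agent.TwoGroups.Taussky
import Cfsg.Agent.TwoGroups.MaxClassSub
import Mathlib.GroupTheory.GroupAction.Quotient

/-!
# Criteria for maximal class

A nonabelian 2-group with an element whose centralizer has order four, or with nilpotency class
one less than the exponent of its order, has derived subgroup of index four.
-/

namespace Cfsg.Agent.TwoGroups

open scoped commutatorElement

variable {G : Type*} [Group G]

/-- In a nonabelian finite 2-group the derived subgroup has index at least four. -/
theorem four_le_index_commutator [Finite G] (hG : IsPGroup 2 G)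
    (hna : ∃ x y : G, x * y ≠ y * x) : 4 ≤ (commutator G).index := by
  have : Fact (Nat.Prime 2) := ⟨Nat.prime_two⟩
  obtain ⟨k, hk⟩ := hG.index (commutator G)
  by_contra hlt
  have hk2 : k ≤ 1 := by
    by_contra h
    exact hlt (hk ▸ le_trans (by norm_num) (Nat.pow_le_pow_right (by norm_num) (not_le.mp h)))
  obtain ⟨x, y, hxy⟩ := hna
  -- every maximal subgroup is the derived subgroup
  have hmax : ∀ M : Subgroup G, IsCoatom M → M = commutator G := by
    intro M hM
    have hi : M.index = 2 := MaxClassData.index_eq_two_of_isCoatom hG hM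
    have := Subgroup.normal_of_index_eq_two hi
    have hle : commutator G ≤ M := by
      rw [commutator_def, Subgroup.commutator_le]
      intro u _ v _
      by_cases hu : u ∈ M <;> by_cases hv : v ∈ M <;>
        simp [commutatorElement_def, Subgroup.mul_mem_iff_of_index_two hi, hu, hv]
    refine (Subgroup.eq_of_le_of_card_ge hle ?_).symm
    have h1 := (commutator G).card_mul_index
    have h2 := M.card_mul_index
    have h3 : (commutator G).index ≤ 2 := by
      rw [hk]; exact (Nat.pow_le_pow_right (by norm_num) hk2).trans (by norm_num)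
    rw [hi] at h2
    nlinarith
  -- hence the group is cyclic
  have hlt' : commutator G ≠ ⊤ := by
    intro htop
    rcases eq_top_or_exists_le_coatom (⊥ : Subgroup G) with h | ⟨M, hM, -⟩
    · exact hxy (by
        have hx : x ∈ (⊥ : Subgroup G) := h ▸ Subgroup.mem_top x
        rw [Subgroup.mem_bot.mp hx]; simp)
    · exact hM.1 ((hmax M hM).trans htop)
  obtain ⟨g, -, hg⟩ := SetLike.exists_of_lt hlt'.lt_top
  rcases eq_top_or_exists_le_coatom (Subgroup.zpowers g) with h | ⟨M, hM, hle⟩
  · obtain ⟨i, rfl⟩ := Subgroup.mem_zpowers_iff.mp (h ▸ Subgroup.mem_top x : x ∈ Subgroup.zpowers g)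
    obtain ⟨j, rfl⟩ := Subgroup.mem_zpowers_iff.mp (h ▸ Subgroup.mem_top y : y ∈ Subgroup.zpowers g)
    exact hxy (Commute.zpow_zpow_self g i j).eq
  · exact hg (hmax M hM ▸ hle (Subgroup.mem_zpowers g))

/-- An element with centralizer of order four forces maximal class. -/
theorem index_commutator_of_card_centralizer [Finite G] (hG : IsPGroup 2 G)
    (hna : ∃ x y : G, x * y ≠ y * x) {t : G}
    (ht : Nat.card (Subgroup.centralizer ({t} : Set G)) = 4) : (commutator G).index = 4 := by
  refine le_antisymm ?_ (four_le_index_commutator hG hna)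
  -- the map `g ↦ [g,t]` embeds the cosets of the centralizer into the derived subgroup
  set C := Subgroup.centralizer ({t} : Set G) with hC
  have hinj : Nat.card (G ⧸ C) ≤ Nat.card (commutator G) := by
    refine Nat.card_le_card_of_injective
      (fun q => ⟨⁅q.out, t⁆, Subgroup.commutator_mem_commutator (Subgroup.mem_top _)
        (Subgroup.mem_top _)⟩) fun p q hpq => ?_
    have h1 : p.out * t * p.out⁻¹ = q.out * t * q.out⁻¹ := by
      have h2 : ⁅p.out, t⁆ = ⁅q.out, t⁆ := congrArg Subtype.val hpq
      exact mul_right_cancel (b := t⁻¹) (by simpa [commutatorElement_def] using h2)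
    rw [← p.out_eq', ← q.out_eq', QuotientGroup.eq]
    refine Subgroup.mem_centralizer_singleton_iff.mpr ?_
    calc p.out⁻¹ * q.out * t = p.out⁻¹ * (q.out * t * q.out⁻¹) * q.out := by group
      _ = p.out⁻¹ * (p.out * t * p.out⁻¹) * q.out := by rw [h1]
      _ = t * (p.out⁻¹ * q.out) := by group
  rw [← Subgroup.index_eq_card] at hinj
  have h1 := C.card_mul_index
  have h2 := (commutator G).card_mul_index
  have h3 : 0 < Nat.card (commutator G) := Nat.card_pos
  rw [ht] at h1
  nlinarith

namespace MaxClassData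

variable {n : ℕ} {a b : G} {r : ℤ} (h : MaxClassData n a b r)
include h

/-- `a ^ 2 ^ k` lies in the `k`-th term of the lower central series. -/
theorem pow_mem_lowerCentralSeries (k : ℕ) :
    a ^ ((2 : ℤ) ^ k) ∈ (⊤ : Subgroup G).lowerCentralSeries k := by
  induction k with
  | zero => simp
  | succ k ih =>
    obtain ⟨u, hu, hru⟩ := h.two_dvd_r_sub_one
    have hc : ⁅a ^ ((2 : ℤ) ^ k), b⁆ ∈ (⊤ : Subgroup G).lowerCentralSeries (k + 1) :=
      Subgroup.commutator_mem_commutator ih (Subgroup.mem_top b)
    have he : ⁅a ^ ((2 : ℤ) ^ k), b⁆ = a ^ (-(u * (2 : ℤ) ^ (k + 1))) := by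
      have h1 : b * a ^ (-((2 : ℤ) ^ k)) * b⁻¹ = a ^ (r * -((2 : ℤ) ^ k)) := by
        rw [h.toCyclicExt.mul_zpow, mul_inv_cancel_right]
      rw [commutatorElement_def, ← zpow_neg,
        show a ^ ((2 : ℤ) ^ k) * b * a ^ (-((2 : ℤ) ^ k)) * b⁻¹
          = a ^ ((2 : ℤ) ^ k) * (b * a ^ (-((2 : ℤ) ^ k)) * b⁻¹) by group,
        h1, ← zpow_add]
      congr 1
      linear_combination -((2 : ℤ) ^ k) * hru
    obtain ⟨p, q, hpq⟩ := isCoprime_two_pow_of_odd hu n
    rw [he] at hc
    have h2 := Subgroup.zpow_mem _ hc (-q)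
    rw [← zpow_mul] at h2
    convert h2 using 1
    rw [h.zpow_eq]
    exact ⟨p * (2 : ℤ) ^ (k + 1), by linear_combination -((2 : ℤ) ^ (k + 1)) * hpq⟩

theorem lowerCentralSeries_ne_bot : (⊤ : Subgroup G).lowerCentralSeries (n - 1) ≠ ⊥ := by
  intro hb
  have h1 := h.pow_mem_lowerCentralSeries (n - 1)
  rw [hb, Subgroup.mem_bot, h.zpow_invol_cast] at h1
  exact absurd (h1 ▸ h.orderOf_invol) (by simp)

end MaxClassData

/-- Nilpotency class one less than the exponent of the order forces index four. -/
theorem index_commutator_of_lowerCentralSeries [Finite G] {n : ℕ} (hcard : Nat.card G = 2 ^ n)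
    (hna : ∃ x y : G, x * y ≠ y * x) (h : (⊤ : Subgroup G).lowerCentralSeries (n - 2) ≠ ⊥) :
    (commutator G).index = 4 := by
  have : Fact (Nat.Prime 2) := ⟨Nat.prime_two⟩
  have hG : IsPGroup 2 G := IsPGroup.of_card hcard
  refine le_antisymm ?_ (four_le_index_commutator hG hna)
  set γ := (⊤ : Subgroup G).lowerCentralSeries with hγ
  have hnil : Group.IsNilpotent G := hG.isNilpotent
  obtain ⟨N, hN⟩ := Subgroup.nilpotent_iff_lowerCentralSeries.mp hnil
  have hstep : ∀ j, γ j ≠ ⊥ → γ (j + 1) < γ j := by
    intro j hj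
    refine lt_of_le_of_ne (Subgroup.lowerCentralSeries_antitone _ (Nat.le_succ j)) fun he => hj ?_
    have hst : ∀ m, γ (j + m) = γ j := by
      intro m
      induction m with
      | zero => rfl
      | succ m ih =>
        rw [← add_assoc, hγ, Subgroup.lowerCentralSeries_succ, ← hγ, ih]
        exact he
    rw [← hst N, eq_bot_iff, ← hN]
    exact Subgroup.lowerCentralSeries_antitone _ (Nat.le_add_left N j)
  have hcardγ : ∀ m, m ≤ n - 2 → 2 ^ (m + 1) ≤ Nat.card (γ (n - 2 - m)) := by
    intro m
    induction m with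
    | zero =>
      intro _
      have := (Subgroup.one_lt_card_iff_ne_bot (γ (n - 2))).mpr h
      simp only [zero_add, pow_one, Nat.sub_zero]; omega
    | succ m ih =>
      intro hm
      have h1 := ih (by omega)
      have h2 : n - 2 - m = n - 2 - (m + 1) + 1 := by omega
      have hne : γ (n - 2 - (m + 1)) ≠ ⊥ := fun hb => h (by
        rw [eq_bot_iff, ← hb]
        exact Subgroup.lowerCentralSeries_antitone _ (by omega))
      have hlt := hstep _ hne
      rw [h2] at h1
      obtain ⟨A, hA⟩ := IsPGroup.iff_card.mp (hG.to_subgroup (γ (n - 2 - (m + 1) + 1)))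
      obtain ⟨B, hB⟩ := IsPGroup.iff_card.mp (hG.to_subgroup (γ (n - 2 - (m + 1))))
      have h3 : Nat.card (γ (n - 2 - (m + 1) + 1)) < Nat.card (γ (n - 2 - (m + 1))) := by
        by_contra hge
        exact hlt.ne (Subgroup.eq_of_le_of_card_ge hlt.le (not_lt.mp hge))
      rw [hA, hB] at h3
      rw [hA] at h1
      rw [hB]
      have hAB : A < B := (Nat.pow_lt_pow_iff_right (by norm_num)).mp h3
      have hmA : m + 1 ≤ A := (Nat.pow_le_pow_iff_right (by norm_num)).mp h1
      exact Nat.pow_le_pow_right (by norm_num) (by omega)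
  by_cases hn : n ≤ 2
  · have := (commutator G).card_mul_index
    have h4 : Nat.card G ≤ 4 := hcard ▸ (Nat.pow_le_pow_right (by norm_num) hn).trans (by norm_num)
    have h5 : 0 < Nat.card (commutator G) := Nat.card_pos
    nlinarith
  · have h1 := hcardγ (n - 3) (by omega)
    rw [show n - 2 - (n - 3) = 1 by omega, show n - 3 + 1 = n - 2 by omega, hγ,
      Subgroup.top_lowerCentralSeries_one] at h1
    have h2 := (commutator G).card_mul_index
    rw [hcard] at h2
    have h3 : 2 ^ n = 2 ^ (n - 2) * 4 := by
      rw [show (4 : ℕ) = 2 ^ 2 by norm_num, ← pow_add]; congr 1; omega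
    have h4 : 0 < 2 ^ (n - 2) := by positivity
    nlinarith

end Cfsg.Agent.TwoGroups
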