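import Cfsg.Prelude.Def_CaseTheorems
import Cfsg.Agent.TwoGroups.MaxClassSub
import Cfsg.Agent.TwoGroups.MaxClassCriterion
import Cfsg.Agent.TwoGroups.Taussky
import Cfsg.Agent.TwoGroups.UniqueInvolution

/-!
# 2-groups of sectional rank two containing a nonabelian group of order eight
-/

set_option autoImplicit false
set_option linter.all false

namespace Cfsg.Agent.TwoGroups

universe u v

open scoped commutatorElement

/-- Sectional rank passes to subgroups. -/
theorem sectional_of_injective {Y : Type u} [Group Y] {X : Type v} [Group X] {p k : ℕ}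
    (f : Y →* X) (hf : Function.Injective f) (h : Cfsg.SectionalPRankLE p k X) :
    Cfsg.SectionalPRankLE p k Y := by
  intro H N _ A hA hpow
  let e : H ≃* H.map f := H.equivMapOfInjective f hf
  haveI : (N.map e.toMonoidHom).Normal := Subgroup.Normal.map inferInstance _ e.surjective
  let q : H ⧸ N ≃* H.map f ⧸ N.map e.toMonoidHom := QuotientGroup.congr N _ e rfl
  haveI := hA
  have h1 := h (H.map f) (N.map e.toMonoidHom) (A.map q.toMonoidHom)
    (Subgroup.map_isMulCommutative A q.toMonoidHom) (by
      rintro _ ⟨a, ha, rfl⟩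
      rw [← map_pow, hpow a ha, map_one])
  rwa [← Nat.card_congr (A.equivMapOfInjective q.toMonoidHom q.injective).toEquiv] at h1

/-- Sectional rank bounds the rank of every quotient. -/
theorem pRankLE_quotient {G : Type u} [Group G] {p k : ℕ} (h : Cfsg.SectionalPRankLE p k G)
    (N : Subgroup G) [N.Normal] : Cfsg.PRankLE p k (G ⧸ N) := by
  intro A hA hpow
  let q : (⊤ : Subgroup G) ⧸ N.subgroupOf ⊤ ≃* G ⧸ N :=
    QuotientGroup.congr _ N Subgroup.topEquiv (Subgroup.map_subgroupOf_eq_of_le le_top)
  haveI := hA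
  have h1 := h ⊤ (N.subgroupOf ⊤) (A.map q.symm.toMonoidHom)
    (Subgroup.map_isMulCommutative A q.symm.toMonoidHom) (by
      rintro _ ⟨a, ha, rfl⟩
      rw [← map_pow, hpow a ha, map_one])
  rwa [← Nat.card_congr (A.equivMapOfInjective q.symm.toMonoidHom q.symm.injective).toEquiv] at h1

/-- Three independent commuting involutions contradict rank two. -/
theorem not_pRankLE_two {G : Type u} [Group G] [Finite G] {s t w : G} (hs : s * s = 1)
    (ht : t * t = 1) (hw : w * w = 1) (hst : s * t = t * s) (hsw : s * w = w * s)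
    (htw : t * w = w * t) (hs1 : s ≠ 1) (ht1 : t ∉ Subgroup.zpowers s)
    (hw1 : w ∉ Subgroup.closure ({s, t} : Set G)) : ¬ Cfsg.PRankLE 2 2 G := by
  intro hr
  have hA : IsMulCommutative (Subgroup.closure ({s, t, w} : Set G)) :=
    Subgroup.isMulCommutative_closure (by
      intro a ha b hb
      simp only [Set.mem_insert_iff, Set.mem_singleton_iff] at ha hb
      rcases ha with rfl | rfl | rfl <;> rcases hb with rfl | rfl | rfl <;>
        first | rfl | assumption | (symm; assumption))
  have h8 := hr (Subgroup.closure ({s, t, w} : Set G)) hA (by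
    intro a ha
    induction ha using Subgroup.closure_induction with
    | mem x hx =>
      simp only [Set.mem_insert_iff, Set.mem_singleton_iff] at hx
      rcases hx with rfl | rfl | rfl <;> simpa [pow_two]
    | one => exact one_pow 2
    | mul x y hx hy h1 h2 =>
      rw [(show Commute x y from congrArg Subtype.val
        (hA.is_comm.comm ⟨x, hx⟩ ⟨y, hy⟩)).mul_pow, h1, h2, one_mul]
    | inv x _ h1 => rw [inv_pow, h1, inv_one])
  set B := Subgroup.closure ({s, t} : Set G)
  set C := Subgroup.closure ({s, t, w} : Set G)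
  have h2 : Nat.card (Subgroup.zpowers s) = 2 := by
    rw [Nat.card_zpowers]; exact orderOf_eq_prime (by rw [pow_two]; exact hs) hs1
  have double : ∀ P Q : Subgroup G, P ≤ Q → (∃ x ∈ Q, x ∉ P) → 2 * Nat.card P ≤ Nat.card Q := by
    intro P Q hPQ ⟨x, hxQ, hxP⟩
    obtain ⟨k, hk⟩ := Subgroup.card_dvd_of_le hPQ
    rw [hk, mul_comm]
    refine Nat.mul_le_mul_left _ ?_
    by_contra hk2
    have hk0 : k ≠ 0 := fun e => by
      rw [e, mul_zero] at hk
      exact (Nat.card_pos (α := Q)).ne' hk
    have : k = 1 := by omega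
    rw [this, mul_one] at hk
    exact hxP (Subgroup.eq_of_le_of_card_ge hPQ hk.le ▸ hxQ)
  have hB := double (Subgroup.zpowers s) B
    (Subgroup.zpowers_le.2 (Subgroup.subset_closure (Set.mem_insert _ _)))
    ⟨t, Subgroup.subset_closure (Set.mem_insert_of_mem _ rfl), ht1⟩
  have hC := double B C (Subgroup.closure_mono (by
      intro a ha
      simp only [Set.mem_insert_iff, Set.mem_singleton_iff] at ha ⊢
      tauto))
    ⟨w, Subgroup.subset_closure (Set.mem_insert_of_mem _ (Set.mem_insert_of_mem _ rfl)), hw1⟩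
  omega

theorem index_commutator_aux : ∀ (n : ℕ) (G : Type u) [Group G] [Finite G], Nat.card G ≤ n →
    IsPGroup 2 G → Cfsg.SectionalPRankLE 2 2 G →
    (∃ H : Subgroup G, Nat.card H = 8 ∧ ∃ x ∈ H, ∃ y ∈ H, x * y ≠ y * x) →
    (commutator G).index = 4 := by
  intro k
  induction k with
  | zero =>
    intro G _ _ hn
    have : 0 < Nat.card G := Nat.card_pos
    omega
  | succ k ih =>
    intro G _ _ hk hG hr hex
    haveI : Fact (Nat.Prime 2) := ⟨Nat.prime_two⟩
    obtain ⟨H, hH8, x₀, hx₀, y₀, hy₀, hxy⟩ := hex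
    have hna : ∃ x y : G, x * y ≠ y * x := ⟨x₀, y₀, hxy⟩
    rcases eq_top_or_exists_le_coatom H with htop | ⟨M, hM, hHM⟩
    · have h4 := four_le_index_commutator hG hna
      have h1 := (commutator G).card_mul_index
      rw [htop, Subgroup.card_top] at hH8
      rw [hH8] at h1
      have h2 : 1 < Nat.card (commutator G) := by
        rw [Subgroup.one_lt_card_iff_ne_bot]
        intro hb
        apply hxy
        have := Subgroup.commutator_mem_commutator (Subgroup.mem_top x₀) (Subgroup.mem_top y₀)
        rw [← commutator_def, hb, Subgroup.mem_bot, commutatorElement_eq_one_iff_mul_comm] at this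
        exact this
      nlinarith
    have hM2 : M.index = 2 := MaxClassData.index_eq_two_of_isCoatom hG hM
    haveI hMn : M.Normal := Subgroup.normal_of_index_eq_two hM2
    have hMk : Nat.card M ≤ k := by
      have := M.card_mul_index
      rw [hM2] at this
      have h0 : 0 < Nat.card M := Nat.card_pos
      omega
    have hMna : ∃ x y : M, x * y ≠ y * x :=
      ⟨⟨x₀, hHM hx₀⟩, ⟨y₀, hHM hy₀⟩, fun e => hxy (congrArg Subtype.val e)⟩
    have hM4 := ih M hMk (hG.to_subgroup M) (sectional_of_injective M.subtype M.subtype_injective hr)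
      ⟨H.subgroupOf M, by rw [Nat.card_congr (Subgroup.subgroupOfEquivOfLe hHM).toEquiv, hH8],
        ⟨x₀, hHM hx₀⟩, hx₀, ⟨y₀, hHM hy₀⟩, hy₀, fun e => hxy (congrArg Subtype.val e)⟩
    have hMne : commutator M ≠ ⊥ := by
      intro hb
      obtain ⟨x, y, hne⟩ := hMna
      have := Subgroup.commutator_mem_commutator (Subgroup.mem_top x) (Subgroup.mem_top y)
      rw [← commutator_def, hb, Subgroup.mem_bot, commutatorElement_eq_one_iff_mul_comm] at this
      exact hne this
    obtain ⟨n₀, a₀, b₀, r₀, h₀⟩ := exists_maxClassData (hG.to_subgroup M) hM4 hMne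
    -- conjugation acts on `M`
    let cj : G → MulAut M := fun g => MulAut.conjNormal g
    have hcj : ∀ (g : G) (m : M), ((cj g m : M) : G) = g * m * g⁻¹ := fun g m =>
      MulAut.conjNormal_apply g m
    -- a normal cyclic maximal subgroup of `M`
    obtain ⟨n, a, b, r, h, hAn⟩ : ∃ (n : ℕ) (a b : M) (r : ℤ), MaxClassData n a b r ∧
        ∀ g : G, cj g a ∈ Subgroup.zpowers a := by
      by_cases hchar : ∀ m : M, orderOf m = 2 ^ n₀ → m ∈ Subgroup.zpowers a₀
      · exact ⟨n₀, a₀, b₀, r₀, h₀, fun g => hchar _ (by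
          rw [show orderOf (cj g a₀) = orderOf a₀ from
            orderOf_injective (cj g).toMonoidHom (cj g).injective a₀, h₀.order])⟩
      push Not at hchar
      obtain ⟨m, hmo, hmA⟩ := hchar
      obtain ⟨i, rfl⟩ := h₀.exists_eq_of_notMem hmA
      obtain ⟨u, hu, hru⟩ := h₀.two_dvd_r_sub_one
      obtain ⟨q, hq⟩ := hu
      have hn2 : n₀ = 2 := by
        by_contra hne
        have h3 : 3 ≤ n₀ := by have := h₀.two_le; omega
        have hcen : (a₀ ^ i * b₀) * (a₀ ^ i * b₀) ∈ Subgroup.center M := by
          rw [h₀.mul_mul]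
          refine mul_mem ?_ h₀.b_sq_mem_center
          rw [h₀.center_eq, h₀.mem_zpowers_two_pow_iff (by omega)]
          have h4 := h₀.dvd_two_mul_r_add_one
          rw [show n₀ = (n₀ - 1) + 1 by omega, pow_succ'] at h4
          have h5 : (2 : ℤ) ^ (n₀ - 1) ∣ r₀ + 1 := (mul_dvd_mul_iff_left two_ne_zero).1 h4
          rw [show i + r₀ * i = (r₀ + 1) * i by ring]
          exact h5.mul_right i
        have hz2 : ((a₀ ^ i * b₀) * (a₀ ^ i * b₀)) ^ 2 = 1 := by
          have := pow_card_eq_one' (x := (⟨_, hcen⟩ : Subgroup.center M))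
          rw [h₀.card_center] at this
          exact congrArg Subtype.val this
        rw [← pow_two, ← pow_mul, ← orderOf_dvd_iff_pow_eq_one, hmo,
          show 2 * 2 = 2 ^ 2 from rfl, Nat.pow_dvd_pow_iff_le_right (by norm_num : 1 < 2)] at hz2
        omega
      subst hn2
      have hr4 : (4 : ℤ) ∣ r₀ + 1 := by
        exact ⟨q + 1, by linear_combination hru + 2 * hq⟩
      have hbb : b₀ * b₀ ≠ 1 := by
        intro e
        have : (a₀ ^ i * b₀) ^ 2 = 1 := by
          rw [pow_two, h₀.mul_mul, e, mul_one, h₀.zpow_eq_one]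
          rw [show i + r₀ * i = (r₀ + 1) * i by ring]
          exact (by norm_num : (2 : ℤ) ^ 2 = 4) ▸ hr4.mul_right i
        rw [← orderOf_dvd_iff_pow_eq_one, hmo] at this
        norm_num at this
      set c := a₀ ^ (2 ^ (2 - 1)) with hc
      have hinvol : ∀ y : M, y * y = 1 → y ∈ Subgroup.center M := by
        intro y hy
        rcases h₀.exists_eq y with ⟨j, rfl⟩ | ⟨j, rfl⟩
        · rw [← zpow_add, h₀.zpow_eq_one] at hy
          rw [h₀.center_eq, h₀.mem_zpowers_two_pow_iff (by omega)]
          norm_num at hy ⊢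
          omega
        · exfalso
          rw [h₀.mul_mul, show j + r₀ * j = (r₀ + 1) * j by ring,
            (h₀.zpow_eq_one _).2 ((by norm_num : (2 : ℤ) ^ 2 = 4) ▸ hr4.mul_right j), one_mul] at hy
          exact hbb hy
      -- a noncentral element fixed modulo the centre
      let Z : Subgroup G := (Subgroup.center M).map M.subtype
      haveI hZn : Z.Normal := by
        refine ⟨?_⟩
        rintro _ ⟨z, hz, rfl⟩ g
        refine ⟨cj g z, ?_, hcj g z⟩
        have := Subgroup.characteristic_iff_map_eq.1 (inferInstance : (Subgroup.center M).Characteristic) (cj g)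
        rw [← this]
        exact Subgroup.mem_map_of_mem _ hz
      have hne : M.map (QuotientGroup.mk' Z) ≠ ⊥ := by
        intro e
        have hle : M ≤ Z := by
          rw [Subgroup.map_eq_bot_iff, QuotientGroup.ker_mk'] at e
          exact e
        obtain ⟨x, y, hne⟩ := hMna
        obtain ⟨x', hx', e'⟩ := hle x.2
        have hxx : x' = x := Subtype.ext e'
        exact hne (Subgroup.mem_center_iff.1 (hxx ▸ hx') y).symm
      obtain ⟨yq, hyqM, hyqc, hyqo⟩ := exists_central_involution_of_normal (hG.to_quotient Z) _ hne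
      obtain ⟨y, hyM, rfl⟩ := hyqM
      have hyZ : (⟨y, hyM⟩ : M) ∉ Subgroup.center M := fun hc' => by
        have : QuotientGroup.mk' Z y = 1 := (QuotientGroup.eq_one_iff _).2 ⟨_, hc', rfl⟩
        rw [this, orderOf_one] at hyqo
        omega
      have hy2 : (⟨y, hyM⟩ : M) * ⟨y, hyM⟩ ∈ Subgroup.center M := by
        have : QuotientGroup.mk' Z (y * y) = 1 := by
          rw [map_mul, ← pow_two, ← hyqo, pow_orderOf_eq_one]
        obtain ⟨z, hz, e⟩ := (QuotientGroup.eq_one_iff _).1 this
        have hze : z = (⟨y, hyM⟩ : M) * ⟨y, hyM⟩ := Subtype.ext e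
        exact hze ▸ hz
      set Y : M := ⟨y, hyM⟩
      have hY4 : orderOf Y = 2 ^ 2 := by
        refine orderOf_eq_prime_pow (p := 2) (n := 1) (fun e => hyZ (hinvol _ (by rw [← pow_two]; simpa using e))) ?_
        have := pow_card_eq_one' (x := (⟨_, hy2⟩ : Subgroup.center M))
        rw [h₀.card_center] at this
        have h' : (Y * Y) ^ 2 = 1 := congrArg Subtype.val this
        rw [← pow_two, ← pow_mul] at h'
        exact h'
      obtain ⟨b, r, h⟩ := maxClassData_of_cyclic_index_two h₀.card hY4 hMna hM4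
      refine ⟨2, Y, b, r, h, fun g => ?_⟩
      have hz : Y⁻¹ * cj g Y ∈ Subgroup.center M := by
        have e : QuotientGroup.mk' Z (y⁻¹ * (g * y * g⁻¹)) = 1 := by
          simp only [map_mul, map_inv]
          rw [Subgroup.mem_center_iff.1 hyqc (QuotientGroup.mk' Z g), mul_inv_cancel_right,
            inv_mul_cancel]
        obtain ⟨z, hz, e'⟩ := (QuotientGroup.eq_one_iff _).1 e
        have : z = Y⁻¹ * cj g Y := Subtype.ext (e'.trans (by rw [Subgroup.coe_mul, hcj]; rfl))
        exact this ▸ hz
      rw [h.center_eq] at hz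
      have := mul_mem (Subgroup.mem_zpowers Y) (h.zpowers_invol_eq hz)
      rwa [mul_inv_cancel_left] at this
    -- the fundamental argument
    have h2 := h.two_le
    haveI := h.finite
    obtain ⟨u, hu, hru⟩ := h.two_dvd_r_sub_one
    obtain ⟨q, hq⟩ := hu
    by_cases hall : ∀ g : G, g * (b : G) = (b : G) * g → g ∈ M
    · refine index_commutator_of_card_centralizer hG hna (t := (b : G)) ?_
      rw [← h.card_centralizer h.notMem]
      exact Nat.card_congr
        { toFun := fun g => ⟨⟨g, hall g (Subgroup.mem_centralizer_singleton_iff.1 g.2)⟩,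
            Subgroup.mem_centralizer_singleton_iff.2
              (Subtype.ext (Subgroup.mem_centralizer_singleton_iff.1 g.2))⟩
          invFun := fun g => ⟨(g : M), Subgroup.mem_centralizer_singleton_iff.2
              (congrArg Subtype.val (Subgroup.mem_centralizer_singleton_iff.1 g.2))⟩
          left_inv := fun g => rfl
          right_inv := fun g => rfl }
    exfalso
    push Not at hall
    obtain ⟨g, hgb, hgM⟩ := hall
    set a' := a ^ ((2 : ℤ) ^ (n - 2)) with ha'
    have hpow : (2 : ℤ) ^ n = 2 ^ (n - 2) * 4 := by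
      rw [show (4 : ℤ) = 2 ^ 2 by norm_num, ← pow_add, show n - 2 + 2 = n by omega]
    have hpow1 : (2 : ℤ) ^ (n - 1) = 2 ^ (n - 2) * 2 := by
      rw [← pow_succ, show n - 2 + 1 = n - 1 by omega]
    have hval : ∀ k k' : ℤ, a' ^ k = a' ^ k' ↔ (4 : ℤ) ∣ k - k' := fun k k' => by
      rw [ha', ← zpow_mul, ← zpow_mul, h.zpow_eq, hpow, ← mul_sub,
        mul_dvd_mul_iff_left (by positivity)]
    have hb' : b * a' * b⁻¹ = a' ^ (-1 : ℤ) := by
      rw [ha', h.toCyclicExt.mul_zpow, mul_inv_cancel_right, ← zpow_mul, h.zpow_eq, hpow,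
        show r * (2 : ℤ) ^ (n - 2) - 2 ^ (n - 2) * -1 = 2 ^ (n - 2) * (r + 1) by ring]
      exact mul_dvd_mul_left _ ⟨q + 1, by linear_combination hru + 2 * hq⟩
    obtain ⟨k, hk'⟩ := Subgroup.mem_zpowers_iff.1 (hAn g)
    have hga : cj g a' = a' ^ k := by
      rw [ha', map_zpow, ← hk', ← zpow_mul, ← zpow_mul, mul_comm]
    have hk2 : ¬ (2 : ℤ) ∣ k := by
      rintro ⟨j, rfl⟩
      have : cj g (a' ^ (2 : ℤ)) = 1 := by
        rw [map_zpow, hga, ← zpow_mul, ← zpow_zero a', hval]
        exact ⟨j, by ring⟩
      rw [map_eq_one_iff _ (cj g).injective, ← zpow_zero a', hval] at this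
      norm_num at this
    obtain ⟨g', hg'M, hg'a, hg'b⟩ : ∃ g' : G, g' ∉ M ∧ g' * (a' : G) = (a' : G) * g' ∧
        g' * (b : G) = (b : G) * g' := by
      have hgk : g * (a' : G) * g⁻¹ = ((a' ^ k : M) : G) := by rw [← hcj, hga]
      rcases (show k % 4 = 1 ∨ k % 4 = 3 by omega) with e | e
      · refine ⟨g, hgM, ?_, hgb⟩
        have : a' ^ k = a' := by
          conv_rhs => rw [← zpow_one a']
          rw [hval]
          omega
        rw [this] at hgk
        exact mul_inv_eq_iff_eq_mul.1 hgk
      · refine ⟨g * b, fun hm => hgM ((Subgroup.mul_mem_cancel_right _ b.2).1 hm), ?_, ?_⟩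
        · apply mul_inv_eq_iff_eq_mul.1
          have hb'' : (b : G) * a' * (b : G)⁻¹ = ((a'⁻¹ : M) : G) := by
            rw [← Subgroup.coe_inv, ← Subgroup.coe_mul, ← Subgroup.coe_mul, hb', zpow_neg_one]
          have : (a' ^ k)⁻¹ = a' := by
            conv_rhs => rw [← zpow_one a']
            rw [← zpow_neg, hval]
            omega
          calc g * b * a' * (g * b)⁻¹ = g * ((b : G) * a' * (b : G)⁻¹) * g⁻¹ := by group
            _ = (g * (a' : G) * g⁻¹)⁻¹ := by rw [hb'', Subgroup.coe_inv]; group
            _ = a' := by rw [hgk, ← Subgroup.coe_inv, this]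
        · rw [mul_assoc]
          nth_rw 2 [← mul_assoc]
          rw [← hgb, mul_assoc]
    -- the centre of `M` is central in `G`
    set c := a ^ (2 ^ (n - 1)) with hc
    have hca : a' ^ (2 : ℤ) = c := by
      rw [ha', ← zpow_mul, ← hpow1, h.zpow_invol_cast]
    have hcG : (c : G) ∈ Subgroup.center G := by
      rw [Subgroup.mem_center_iff]
      intro x
      have hx : cj x c ∈ Subgroup.center M := by
        have := Subgroup.characteristic_iff_map_eq.1 (inferInstance : (Subgroup.center M).Characteristic) (cj x)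
        rw [← this]
        exact Subgroup.mem_map_of_mem _ (h.center_eq.symm ▸ Subgroup.mem_zpowers c)
      rw [h.center_eq] at hx
      obtain ⟨i, hi⟩ := Subgroup.mem_zpowers_iff.1 hx
      have hoc : orderOf c = 2 := h.orderOf_invol
      have : cj x c = c := by
        rw [← hi, ← zpow_mod_orderOf, hoc]
        rcases Int.emod_two_eq_zero_or_one i with e | e
        · exfalso
          rw [← zpow_mod_orderOf, hoc, Nat.cast_ofNat, e, zpow_zero] at hi
          rw [(map_eq_one_iff _ (cj x).injective).1 hi.symm, orderOf_one] at hoc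
          omega
        · rw [Nat.cast_ofNat, e, zpow_one]
      have e := congrArg Subtype.val this
      rw [hcj] at e
      exact mul_inv_eq_iff_eq_mul.1 e
    haveI hCn : (Subgroup.zpowers (c : G)).Normal := ⟨fun z hz x => by
      rw [Subgroup.mem_center_iff.1 (Subgroup.zpowers_le.2 hcG hz) x, mul_inv_cancel_right]; exact hz⟩
    have hZmem : ∀ m : M, m ∈ Subgroup.center M → (m : G) ∈ Subgroup.zpowers (c : G) := fun m hm => by
      rw [h.center_eq] at hm
      obtain ⟨i, rfl⟩ := Subgroup.mem_zpowers_iff.1 hm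
      exact Subgroup.mem_zpowers_iff.2 ⟨i, by simp [hc]⟩
    have hsq : g' * g' ∈ M := MaxClassData.sq_mem_of_index_two' hM2 g'
    have hcen : (⟨g' * g', hsq⟩ : M) ∈ Subgroup.center M := by
      set e : M := ⟨g' * g', hsq⟩ with he
      have hea : e * a' = a' * e := Subtype.ext (by
        show g' * g' * (a' : G) = (a' : G) * (g' * g')
        rw [mul_assoc, hg'a, ← mul_assoc, hg'a, mul_assoc])
      have heb : e * b = b * e := Subtype.ext (by
        show g' * g' * (b : G) = (b : G) * (g' * g')
        rw [mul_assoc, hg'b, ← mul_assoc, hg'b, mul_assoc])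
      rcases h.exists_eq e with ⟨i, hi⟩ | ⟨i, hi⟩
      · rw [hi] at heb ⊢
        rw [h.center_eq, h.mem_zpowers_two_pow_iff (by omega)]
        refine (h.commute_zpow_zpow_mul i 0).1 ?_
        show a ^ i * (a ^ (0 : ℤ) * b) = a ^ (0 : ℤ) * b * a ^ i
        rw [zpow_zero, one_mul, heb]
      · exfalso
        rw [hi] at hea
        have h1 : b * a' = a' * b := by
          have hc' : Commute (a ^ i) a' := by rw [ha']; exact Commute.zpow_zpow_self a i _
          rw [mul_assoc, ← mul_assoc a', ← hc'.eq, mul_assoc] at hea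
          exact mul_left_cancel hea
        rw [h1, mul_inv_cancel_right] at hb'
        have h2 : a' ^ (1 : ℤ) = a' ^ (-1 : ℤ) := by rw [zpow_one]; exact hb'
        rw [hval] at h2
        norm_num at h2
    refine not_pRankLE_two (s := QuotientGroup.mk' (Subgroup.zpowers (c : G)) (a' : G))
      (t := QuotientGroup.mk' _ (b : G)) (w := QuotientGroup.mk' _ g') ?_ ?_ ?_ ?_ ?_ ?_ ?_ ?_ ?_
      (pRankLE_quotient hr _)
    · rw [← map_mul]
      refine (QuotientGroup.eq_one_iff _).2 ?_
      rw [← Subgroup.coe_mul, ← zpow_one a', ← zpow_add, show (1 : ℤ) + 1 = 2 from rfl, hca]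
      exact Subgroup.mem_zpowers _
    · rw [← map_mul]
      exact (QuotientGroup.eq_one_iff _).2 (hZmem _ h.b_sq_mem_center)
    · rw [← map_mul]
      exact (QuotientGroup.eq_one_iff _).2 (hZmem _ hcen)
    · rw [← map_mul, ← map_mul]
      refine QuotientGroup.eq.2 ?_
      have e : (a' * b)⁻¹ * (b * a') = c⁻¹ := by
        have h1 : b * a' = a' ^ (-1 : ℤ) * b := by rw [← hb', inv_mul_cancel_right]
        rw [← hca, mul_inv_rev, mul_assoc, h1, ← mul_assoc a'⁻¹, zpow_neg_one, ← mul_inv_rev,
          show a' * a' = a' ^ (2 : ℤ) by rw [zpow_two], hca]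
        have hcc : b⁻¹ * c⁻¹ * b = c⁻¹ := by
          rw [Subgroup.mem_center_iff.1 (inv_mem (h.center_eq.symm ▸ Subgroup.mem_zpowers c)) b⁻¹,
            mul_assoc, inv_mul_cancel, mul_one]
        rw [← mul_assoc]
        exact hcc
      have := congrArg Subtype.val e
      simp only [Subgroup.coe_mul, Subgroup.coe_inv] at this
      rw [this]
      exact inv_mem (Subgroup.mem_zpowers _)
    · rw [← map_mul, ← map_mul, hg'a]
    · rw [← map_mul, ← map_mul, hg'b]
    · intro e
      obtain ⟨i, hi⟩ := Subgroup.mem_zpowers_iff.1 ((QuotientGroup.eq_one_iff _).1 e)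
      have h1 : a' ^ (2 * i) = a' ^ (1 : ℤ) := by
        rw [zpow_mul, hca, zpow_one]; exact Subtype.ext (by simpa using hi)
      rw [hval] at h1
      omega
    · intro e
      obtain ⟨i, hi⟩ := Subgroup.mem_zpowers_iff.1 e
      rw [← map_zpow] at hi
      obtain ⟨j, hj⟩ := Subgroup.mem_zpowers_iff.1 (QuotientGroup.eq.1 hi)
      apply h.notMem
      have hbeq : b = a' ^ i * c ^ j := Subtype.ext (by
        simp only [Subgroup.coe_mul, SubgroupClass.coe_zpow]
        rw [hj, mul_inv_cancel_left])
      rw [hbeq, ha']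
      exact mul_mem (zpow_mem (Subgroup.zpow_mem_zpowers a _) i)
        (zpow_mem (Subgroup.npow_mem_zpowers a _) j)
    · intro e
      have hle : Subgroup.closure ({QuotientGroup.mk' (Subgroup.zpowers (c : G)) (a' : G),
          QuotientGroup.mk' _ (b : G)} : Set _) ≤ M.map (QuotientGroup.mk' _) := by
        rw [Subgroup.closure_le]
        intro z hz
        simp only [Set.mem_insert_iff, Set.mem_singleton_iff] at hz
        rcases hz with rfl | rfl
        · exact Subgroup.mem_map_of_mem _ a'.2
        · exact Subgroup.mem_map_of_mem _ b.2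
      obtain ⟨m, hm, hme⟩ := hle e
      have := QuotientGroup.eq.1 hme
      refine hg'M ?_
      have h3 := mul_mem hm (Subgroup.zpowers_le.2 c.2 this)
      rwa [mul_inv_cancel_left] at h3

/-- A 2-group of sectional rank at most two with a nonabelian subgroup of order 8 has maximal
class. -/
theorem index_commutator_of_sectional {G : Type u} [Group G] [Finite G] (hG : IsPGroup 2 G)
    (hr : Cfsg.SectionalPRankLE 2 2 G) {H : Subgroup G} (h8 : Nat.card H = 8)
    (hH : ∃ x ∈ H, ∃ y ∈ H, x * y ≠ y * x) : (commutator G).index = 4 :=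
  index_commutator_aux _ G le_rfl hG hr ⟨H, h8, hH⟩

end Cfsg.Agent.TwoGroups
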