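import Cfsg.Prelude.Def_OddOrderLocal
import Cfsg.Agent.TwoGroups.SectionalTwo
import Cfsg.Agent.PGroup.Basic
import Cfsg.Agent.PGroup.Frattini

/-!
# 2-groups of sectional rank two are metacyclic
-/

set_option autoImplicit false
set_option linter.all false

namespace Cfsg.Agent.TwoGroups

universe u v

open scoped commutatorElement

/-- Sectional rank passes to homomorphic images. -/
theorem sectional_of_surjective {G : Type u} [Group G] {Q : Type v} [Group Q] {p k : ℕ}
    (f : G →* Q) (hf : Function.Surjective f) (h : Cfsg.SectionalPRankLE p k G) :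
    Cfsg.SectionalPRankLE p k Q := by
  intro H M _ A hA hpow
  let g : H.comap f →* H ⧸ M := (QuotientGroup.mk' M).comp (f.subgroupComap H)
  have hg : Function.Surjective g :=
    (QuotientGroup.mk'_surjective M).comp (f.subgroupComap_surjective_of_surjective H hf)
  let q := QuotientGroup.quotientKerEquivOfSurjective g hg
  haveI := hA
  have h1 := h (H.comap f) g.ker (A.map q.symm.toMonoidHom)
    (Subgroup.map_isMulCommutative A q.symm.toMonoidHom) (by
      rintro _ ⟨a, ha, rfl⟩
      rw [← map_pow, hpow a ha, map_one])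
  rwa [← Nat.card_congr (A.equivMapOfInjective q.symm.toMonoidHom q.symm.injective).toEquiv] at h1

/-- An element of largest order splits off a cyclic quotient in rank two. -/
theorem exists_max_cyclic_quotient {A : Type u} [CommGroup A] [Finite A] (hA : IsPGroup 2 A)
    (hr : Cfsg.PRankLE 2 2 A) :
    ∃ a : A, (∀ x : A, x ^ orderOf a = 1) ∧ IsCyclic (A ⧸ Subgroup.zpowers a) := by
  haveI : Fact (Nat.Prime 2) := ⟨Nat.prime_two⟩
  obtain ⟨a, ha⟩ := Monoid.exists_orderOf_eq_exponent (Monoid.ExponentExists.of_finite (G := A))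
  have hexp : ∀ x : A, x ^ orderOf a = 1 := fun x => by rw [ha]; exact Monoid.pow_exponent_eq_one x
  refine ⟨a, hexp, ?_⟩
  obtain ⟨m, hm⟩ := IsPGroup.iff_orderOf.1 hA a
  refine Cfsg.Agent.PGroup.isCyclic_of_card_omega_le (p := 2) (hA.to_quotient _) inferInstance ?_
  rcases Nat.eq_zero_or_pos m with hm0 | hm0
  · haveI : Subsingleton A := ⟨fun x y => by
      have hx := hexp x
      have hy := hexp y
      rw [hm, hm0, pow_zero, pow_one] at hx hy
      rw [hx, hy]⟩
    haveI : Subsingleton (A ⧸ Subgroup.zpowers a) :=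
      (QuotientGroup.mk'_surjective (Subgroup.zpowers a)).subsingleton
    exact (Finite.card_le_one_iff_subsingleton.2 inferInstance).trans (by norm_num)
  let Ω : Subgroup A := (powMonoidHom 2 : A →* A).ker
  have hΩ : Nat.card Ω ≤ 2 ^ 2 := hr Ω ⟨⟨fun x y => mul_comm x y⟩⟩ (fun x hx => hx)
  let f : Ω →* A ⧸ Subgroup.zpowers a := (QuotientGroup.mk' (Subgroup.zpowers a)).comp Ω.subtype
  have hsurj : ∀ y : A ⧸ Subgroup.zpowers a, y ^ 2 = 1 → y ∈ f.range := by
    intro y
    refine QuotientGroup.induction_on y fun x => ?_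
    intro hx
    rw [← QuotientGroup.mk_pow, QuotientGroup.eq_one_iff, Subgroup.mem_zpowers_iff] at hx
    obtain ⟨t, ht⟩ := hx
    obtain ⟨j, rfl⟩ : (2 : ℤ) ∣ t := by
      have h1 : (a ^ t) ^ (2 ^ (m - 1)) = 1 := by
        rw [ht, ← pow_mul, ← pow_succ', show m - 1 + 1 = m by omega, ← hm, hexp]
      rw [← zpow_natCast, ← zpow_mul, ← orderOf_dvd_iff_zpow_eq_one, hm] at h1
      push_cast at h1
      rw [show (2 : ℤ) ^ m = 2 * 2 ^ (m - 1) by rw [← pow_succ', show m - 1 + 1 = m by omega]] at h1
      exact (mul_dvd_mul_iff_right (by positivity)).1 h1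
    refine ⟨⟨x * (a ^ j)⁻¹, ?_⟩, ?_⟩
    · show (x * (a ^ j)⁻¹) ^ 2 = 1
      rw [mul_pow, inv_pow, ← ht, ← zpow_natCast (a ^ j), ← zpow_mul, Nat.cast_ofNat, mul_comm j,
        mul_inv_cancel]
    · show QuotientGroup.mk (x * (a ^ j)⁻¹) = (QuotientGroup.mk x : A ⧸ Subgroup.zpowers a)
      rw [QuotientGroup.mk_mul, (QuotientGroup.eq_one_iff _).2
        (inv_mem (Subgroup.zpow_mem_zpowers a j)), mul_one]
  have h1 : 2 ≤ Nat.card f.ker := by
    let w : Ω := ⟨a ^ (2 ^ (m - 1)), by
      show (a ^ (2 ^ (m - 1))) ^ 2 = 1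
      rw [← pow_mul, ← pow_succ, show m - 1 + 1 = m by omega, ← hm, pow_orderOf_eq_one]⟩
    have hw : w ∈ f.ker := (QuotientGroup.eq_one_iff _).2 (Subgroup.npow_mem_zpowers a _)
    show 1 < Nat.card f.ker
    rw [Subgroup.one_lt_card_iff_ne_bot]
    intro hb
    rw [hb, Subgroup.mem_bot] at hw
    have h2 : a ^ (2 ^ (m - 1)) = 1 := congrArg Subtype.val hw
    rw [← orderOf_dvd_iff_pow_eq_one, hm, Nat.pow_dvd_pow_iff_le_right (by norm_num : 1 < 2)] at h2
    omega
  have h2 := Subgroup.card_eq_card_quotient_mul_card_subgroup f.ker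
  rw [Nat.card_congr (QuotientGroup.quotientKerEquivRange f).toEquiv] at h2
  have h3 : Nat.card {y : A ⧸ Subgroup.zpowers a // y ^ 2 = 1} ≤ Nat.card f.range :=
    Nat.card_le_card_of_injective (fun y => (⟨y.1, hsurj y.1 y.2⟩ : f.range))
      fun p q e => Subtype.ext (Subtype.mk.inj e)
  nlinarith

/-- A generator of a cyclic normal subgroup containing the derived group, with one more generator. -/
theorem isMetacyclic_of_two {G : Type u} [Group G] {g h : G}
    (hgen : Subgroup.closure ({g, h} : Set G) = ⊤) (hc : commutator G ≤ Subgroup.zpowers g) :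
    Cfsg.IsMetacyclic G := by
  haveI hn : (Subgroup.zpowers g).Normal := Cfsg.Agent.PGroup.normal_of_commutator_le hc
  refine ⟨Subgroup.zpowers g, hn, inferInstance, ?_⟩
  have htop : Subgroup.zpowers (QuotientGroup.mk' (Subgroup.zpowers g) h) = ⊤ := by
    rw [← top_le_iff, ← Subgroup.map_top_of_surjective _ (QuotientGroup.mk'_surjective _), ← hgen,
      MonoidHom.map_closure, Subgroup.closure_le]
    rintro _ ⟨x, hx, rfl⟩
    simp only [Set.mem_insert_iff, Set.mem_singleton_iff] at hx
    rcases hx with rfl | rfl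
    · rw [SetLike.mem_coe,
        show QuotientGroup.mk' (Subgroup.zpowers x) x = 1 from
          (QuotientGroup.eq_one_iff x).2 (Subgroup.mem_zpowers x)]
      exact one_mem _
    · exact Subgroup.mem_zpowers _
  exact ⟨⟨_, fun x => Subgroup.mem_zpowers_iff.1 (htop ▸ Subgroup.mem_top x)⟩⟩

theorem isMetacyclic_aux : ∀ (k : ℕ) (G : Type u) [Group G] [Finite G], Nat.card G ≤ k →
    IsPGroup 2 G → Cfsg.SectionalPRankLE 2 2 G → Cfsg.IsMetacyclic G := by
  intro k
  induction k with
  | zero =>
    intro G _ _ hk
    have : 0 < Nat.card G := Nat.card_pos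
    omega
  | succ k ih =>
    intro G _ _ hk hG hr
    haveI : Fact (Nat.Prime 2) := ⟨Nat.prime_two⟩
    have hrG : Cfsg.PRankLE 2 2 G := by
      intro A hA hpow
      haveI := hA
      have h1 := pRankLE_quotient hr (⊥ : Subgroup G) (A.map (QuotientGroup.mk' ⊥))
        (Subgroup.map_isMulCommutative A _) (by
          rintro _ ⟨a, ha, rfl⟩
          rw [← map_pow, hpow a ha, map_one])
      rwa [← Nat.card_congr (A.equivMapOfInjective (QuotientGroup.mk' ⊥) (fun x y e => by
        have h := QuotientGroup.eq.1 e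
        rw [Subgroup.mem_bot] at h
        exact inv_mul_eq_one.1 h)).toEquiv] at h1
    by_cases hab : ∀ x y : G, x * y = y * x
    · letI : CommGroup G := { (inferInstance : Group G) with mul_comm := hab }
      obtain ⟨a, -, hcyc⟩ := exists_max_cyclic_quotient hG hrG
      exact ⟨Subgroup.zpowers a, inferInstance, inferInstance, hcyc⟩
    push Not at hab
    have hG'ne : commutator G ≠ ⊥ := by
      intro hb
      obtain ⟨x, y, hxy⟩ := hab
      have := Subgroup.commutator_mem_commutator (Subgroup.mem_top x) (Subgroup.mem_top y)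
      rw [← commutator_def, hb, Subgroup.mem_bot, commutatorElement_eq_one_iff_mul_comm] at this
      exact hxy this
    have hnocyc : ∀ g : G, Subgroup.zpowers g ⊔ commutator G ≠ ⊤ := by
      intro g hg
      obtain ⟨x, y, hxy⟩ := hab
      have htop : Subgroup.zpowers g = ⊤ := Cfsg.Agent.PGroup.eq_top_of_sup_frattini
        (top_le_iff.1 (hg.ge.trans (sup_le_sup_left (Cfsg.Agent.PGroup.commutator_le_frattini hG) _)))
      obtain ⟨i, rfl⟩ := Subgroup.mem_zpowers_iff.1 (htop ▸ Subgroup.mem_top x : x ∈ Subgroup.zpowers g)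
      obtain ⟨j, rfl⟩ := Subgroup.mem_zpowers_iff.1 (htop ▸ Subgroup.mem_top y : y ∈ Subgroup.zpowers g)
      exact hxy (Commute.zpow_zpow_self g i j).eq
    set P := Subgroup.normalClosure
      {z : G | ∃ x ∈ commutator G, z = x ^ 2 ∨ ∃ g : G, z = ⁅g, x⁆} with hPdef
    by_cases hP : P = ⊥
    swap
    · -- reduce modulo a central involution
      haveI : P.Normal := Subgroup.normalClosure_normal
      obtain ⟨z, hzP, hzC, hzo⟩ := exists_central_involution_of_normal hG P hP
      haveI hRn : (Subgroup.zpowers z).Normal := ⟨fun w hw g => by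
        rw [Subgroup.mem_center_iff.1 (Subgroup.zpowers_le.2 hzC hw) g, mul_inv_cancel_right]
        exact hw⟩
      have hlt : Nat.card (G ⧸ Subgroup.zpowers z) ≤ k := by
        have h1 := Subgroup.card_eq_card_quotient_mul_card_subgroup (Subgroup.zpowers z)
        rw [Nat.card_zpowers, hzo] at h1
        have h0 : 0 < Nat.card (G ⧸ Subgroup.zpowers z) := Nat.card_pos
        omega
      obtain ⟨N', hN'n, hN'c, hQc⟩ := ih _ hlt (hG.to_quotient _)
        (sectional_of_surjective _ (QuotientGroup.mk'_surjective _) hr)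
      haveI := hN'n
      haveI := hN'c
      haveI := hQc
      set π := QuotientGroup.mk' (Subgroup.zpowers z) with hπ
      set N := N'.comap π with hN
      let ψ : G →* (G ⧸ Subgroup.zpowers z) ⧸ N' := (QuotientGroup.mk' N').comp π
      have hψ : Function.Surjective ψ :=
        (QuotientGroup.mk'_surjective N').comp (QuotientGroup.mk'_surjective _)
      have hψk : ψ.ker = N := by
        rw [← MonoidHom.comap_ker, QuotientGroup.ker_mk']
      haveI hcycN : IsCyclic (G ⧸ N) := by
        have e := (QuotientGroup.quotientMulEquivOfEq hψk.symm).trans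
          (QuotientGroup.quotientKerEquivOfSurjective ψ hψ)
        exact isCyclic_of_surjective e.symm.toMonoidHom e.symm.surjective
      have hG'N : commutator G ≤ N := by
        rw [← hψk]
        intro x hx
        rw [MonoidHom.mem_ker]
        have h1 : ψ x ∈ (commutator G).map ψ := Subgroup.mem_map_of_mem _ hx
        rw [commutator_def, Subgroup.map_commutator] at h1
        have h2 : ⁅(⊤ : Subgroup G).map ψ, (⊤ : Subgroup G).map ψ⁆ = ⊥ := by
          letI := IsCyclic.commGroup (α := (G ⧸ Subgroup.zpowers z) ⧸ N')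
          rw [eq_bot_iff, Subgroup.commutator_le]
          intro p _ q _
          rw [Subgroup.mem_bot, commutatorElement_eq_one_iff_mul_comm]
          exact mul_comm p q
        rw [h2, Subgroup.mem_bot] at h1
        exact h1
      obtain ⟨qa, hqa⟩ := IsCyclic.exists_generator (α := N')
      obtain ⟨a, ha⟩ := QuotientGroup.mk'_surjective (Subgroup.zpowers z) (qa : G ⧸ Subgroup.zpowers z)
      have haN : a ∈ N := by
        show π a ∈ N'
        rw [ha]; exact qa.2
      have hform : ∀ x ∈ N, ∃ (i : ℤ) (w : G), w ∈ Subgroup.zpowers z ∧ x = a ^ i * w := by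
        intro x hx
        obtain ⟨i, hi⟩ := Subgroup.mem_zpowers_iff.1 (hqa ⟨π x, hx⟩)
        have hi' : π (a ^ i) = π x := by
          rw [map_zpow, ha]; exact congrArg Subtype.val hi
        exact ⟨i, (a ^ i)⁻¹ * x, QuotientGroup.eq.1 hi', by rw [mul_inv_cancel_left]⟩
      have hwc : ∀ w ∈ Subgroup.zpowers z, ∀ g : G, Commute g w := fun w hw g =>
        Subgroup.mem_center_iff.1 (Subgroup.zpowers_le.2 hzC hw) g
      have hw2 : ∀ w ∈ Subgroup.zpowers z, w ^ 2 = 1 := by
        intro w hw
        obtain ⟨i, rfl⟩ := Subgroup.mem_zpowers_iff.1 hw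
        rw [← zpow_natCast, ← zpow_mul, mul_comm, zpow_mul, zpow_natCast, ← hzo, pow_orderOf_eq_one,
          one_zpow]
      haveI hNn : N.Normal := by rw [← hψk]; infer_instance
      set L := Subgroup.zpowers (a ^ 2) with hL
      haveI hLn : L.Normal := by
        refine ⟨fun w hw g => ?_⟩
        obtain ⟨i, rfl⟩ := Subgroup.mem_zpowers_iff.1 hw
        obtain ⟨j, w', hw', e⟩ := hform _ (hNn.conj_mem a haN g)
        rw [← conj_zpow, ← conj_pow, e, (hwc w' hw' _).mul_pow, hw2 w' hw', mul_one,
          ← zpow_natCast (a ^ j), ← zpow_mul, ← zpow_mul]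
        exact Subgroup.mem_zpowers_iff.2 ⟨j * i, by rw [← zpow_natCast a, ← zpow_mul]; congr 1; push_cast; ring⟩
      have hR_G' : z ∈ commutator G := by
        refine Subgroup.normalClosure_le_normal ?_ hzP
        rintro w ⟨x, hx, rfl | ⟨g, rfl⟩⟩
        · exact pow_mem hx 2
        · exact Subgroup.commutator_mem_commutator (Subgroup.mem_top g) (Subgroup.mem_top x)
      have heven : ∀ x ∈ commutator G, ∃ (i : ℤ) (w : G), w ∈ Subgroup.zpowers z ∧
          x = (a ^ 2) ^ i * w := by
        intro x hx
        obtain ⟨i, w, hw, rfl⟩ := hform x (hG'N hx)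
        rcases Int.even_or_odd' i with ⟨j, rfl | rfl⟩
        · exact ⟨j, w, hw, by rw [← zpow_natCast a, ← zpow_mul, Nat.cast_ofNat]⟩
        · exfalso
          have haG' : a ^ (2 * j + 1) ∈ commutator G := by
            have := mul_mem hx (inv_mem (Subgroup.zpowers_le.2 hR_G' hw))
            rwa [mul_inv_cancel_right] at this
          obtain ⟨e, he⟩ := IsPGroup.iff_orderOf.1 hG a
          have hcop : IsCoprime ((2 : ℤ) * j + 1) ((2 : ℤ) ^ e) :=
            IsCoprime.pow_right ⟨1, -j, by ring⟩
          obtain ⟨p, q, hpq⟩ := hcop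
          have ha' : a ∈ commutator G := by
            have h1 := Subgroup.zpow_mem _ haG' p
            rw [← zpow_mul] at h1
            have h2 : a ^ ((2 * j + 1) * p) = a := by
              conv_rhs => rw [← zpow_one a]
              rw [zpow_eq_zpow_iff a, he]
              exact ⟨-q, by push_cast; linear_combination hpq⟩
            rwa [h2] at h1
          obtain ⟨g, hg⟩ := IsCyclic.exists_generator (α := G ⧸ N)
          obtain ⟨g, rfl⟩ := QuotientGroup.mk'_surjective N g
          apply hnocyc g
          rw [eq_top_iff]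
          intro x _
          obtain ⟨i, hi⟩ := Subgroup.mem_zpowers_iff.1 (hg (QuotientGroup.mk' N x))
          rw [← map_zpow] at hi
          obtain ⟨i', w', hw', e'⟩ := hform _ (QuotientGroup.eq.1 hi)
          have hxe : x = g ^ i * ((g ^ i)⁻¹ * x) := by rw [mul_inv_cancel_left]
          rw [hxe, e']
          exact mul_mem (Subgroup.mem_sup_left (Subgroup.zpow_mem_zpowers g i))
            (Subgroup.mem_sup_right (mul_mem (Subgroup.zpow_mem _ ha' i')
              (Subgroup.zpowers_le.2 hR_G' hw')))
      have hPL : P ≤ L := by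
        refine Subgroup.normalClosure_le_normal ?_
        rintro w ⟨x, hx, hw⟩
        obtain ⟨i, w', hw', rfl⟩ := heven x hx
        rcases hw with rfl | ⟨g, rfl⟩
        · rw [SetLike.mem_coe, (hwc w' hw' _).mul_pow, hw2 w' hw', mul_one]
          exact pow_mem (Subgroup.zpow_mem_zpowers _ i) 2
        · have h1 : g * ((a ^ 2) ^ i * w') * g⁻¹ = g * (a ^ 2) ^ i * g⁻¹ * w' := by
            rw [← mul_assoc, mul_assoc _ w' g⁻¹, ← (hwc w' hw' g⁻¹).eq, ← mul_assoc]
          rw [SetLike.mem_coe, commutatorElement_def, h1, mul_inv_rev, mul_assoc, mul_inv_cancel_left]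
          exact mul_mem (hLn.conj_mem _ (Subgroup.zpow_mem_zpowers _ i) g)
            (inv_mem (Subgroup.zpow_mem_zpowers _ i))
      have hNeq : N = Subgroup.zpowers a := by
        refine le_antisymm (fun x hx => ?_) (Subgroup.zpowers_le.2 haN)
        obtain ⟨i, w, hw, rfl⟩ := hform x hx
        exact mul_mem (Subgroup.zpow_mem_zpowers a i) ((Subgroup.zpowers_le.2 (Subgroup.zpowers_le.2
          (Subgroup.npow_mem_zpowers a 2) (hPL hzP))) hw)
      exact ⟨N, hNn, hNeq ▸ inferInstance, hcycN⟩
    · -- the derived group has order two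
      have hsq : ∀ x ∈ commutator G, x ^ 2 = 1 := fun x hx => by
        have : x ^ 2 ∈ P := Subgroup.subset_normalClosure ⟨x, hx, Or.inl rfl⟩
        rwa [hP, Subgroup.mem_bot] at this
      have hcen : ∀ x ∈ commutator G, ∀ g : G, g * x = x * g := fun x hx g => by
        have : ⁅g, x⁆ ∈ P := Subgroup.subset_normalClosure ⟨x, hx, Or.inr ⟨g, rfl⟩⟩
        rwa [hP, Subgroup.mem_bot, commutatorElement_eq_one_iff_mul_comm] at this
      letI : CommGroup (G ⧸ commutator G) :=
        { (inferInstance : Group (G ⧸ commutator G)) with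
          mul_comm := fun p q => QuotientGroup.induction_on p fun x => QuotientGroup.induction_on q
            fun y => by
              rw [← QuotientGroup.mk_mul, ← QuotientGroup.mk_mul, QuotientGroup.eq]
              have : (x * y)⁻¹ * (y * x) = ⁅y⁻¹, x⁻¹⁆ := by rw [commutatorElement_def]; group
              rw [this]
              exact Subgroup.commutator_mem_commutator (Subgroup.mem_top _) (Subgroup.mem_top _) }
      obtain ⟨qa, hexp, hcyc⟩ := exists_max_cyclic_quotient (hG.to_quotient (commutator G))
        (pRankLE_quotient hr (commutator G))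
      obtain ⟨a, rfl⟩ := QuotientGroup.mk'_surjective (commutator G) qa
      haveI := hcyc
      set π := QuotientGroup.mk' (commutator G) with hπ
      let φ : G →* (G ⧸ commutator G) ⧸ Subgroup.zpowers (π a) := (QuotientGroup.mk' _).comp π
      have hφs : Function.Surjective φ :=
        (QuotientGroup.mk'_surjective _).comp (QuotientGroup.mk'_surjective _)
      obtain ⟨qb, hqb⟩ := IsCyclic.exists_generator (α := (G ⧸ commutator G) ⧸ Subgroup.zpowers (π a))
      obtain ⟨b0, hb0⟩ := hφs qb
      obtain ⟨m, hm⟩ := IsPGroup.iff_orderOf.1 (hG.to_quotient (commutator G)) (π a)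
      obtain ⟨n, hn⟩ := IsPGroup.iff_orderOf.1
        ((hG.to_quotient (commutator G)).to_quotient (Subgroup.zpowers (π a))) qb
      have hnm : n ≤ m := by
        have : qb ^ (2 ^ m) = 1 := by
          rw [← hb0]
          show QuotientGroup.mk' _ (π b0) ^ _ = 1
          rw [← map_pow, ← hm, hexp, map_one]
        rw [← orderOf_dvd_iff_pow_eq_one, hn, Nat.pow_dvd_pow_iff_le_right (by norm_num : 1 < 2)] at this
        exact this
      -- adjust the second generator
      obtain ⟨b, hbφ, hbn⟩ : ∃ b, φ b = qb ∧ b ^ (2 ^ n) ∈ commutator G := by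
        have hmem : π (b0 ^ (2 ^ n)) ∈ Subgroup.zpowers (π a) := by
          rw [← QuotientGroup.eq_one_iff]
          show φ (b0 ^ (2 ^ n)) = 1
          rw [map_pow, hb0, ← hn, pow_orderOf_eq_one]
        obtain ⟨t, ht⟩ := Subgroup.mem_zpowers_iff.1 hmem
        have hdvd : ((2 ^ n : ℕ) : ℤ) ∣ t := by
          have h1 : ((π a) ^ t) ^ (2 ^ (m - n)) = 1 := by
            rw [ht, map_pow, ← pow_mul, ← pow_add, Nat.add_sub_cancel' hnm, ← hm, hexp]
          rw [← zpow_natCast, ← zpow_mul, ← orderOf_dvd_iff_zpow_eq_one, hm] at h1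
          push_cast at h1 ⊢
          rw [show (2 : ℤ) ^ m = 2 ^ n * 2 ^ (m - n) by rw [← pow_add, Nat.add_sub_cancel' hnm]] at h1
          exact (mul_dvd_mul_iff_right (by positivity)).1 h1
        obtain ⟨j, rfl⟩ := hdvd
        refine ⟨b0 * (a ^ j)⁻¹, ?_, (QuotientGroup.eq_one_iff _).1 ?_⟩
        · rw [map_mul, map_inv, hb0, map_zpow, show φ a = 1 from
            (QuotientGroup.eq_one_iff _).2 (Subgroup.mem_zpowers _), one_zpow, inv_one, mul_one]
        · show π ((b0 * (a ^ j)⁻¹) ^ (2 ^ n)) = 1
          rw [map_pow, map_mul, map_inv, mul_pow, inv_pow, ← map_pow, ← ht, map_zpow,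
            ← zpow_natCast ((π a) ^ j), ← zpow_mul, mul_comm j, mul_inv_cancel]
      have hgen : Subgroup.closure ({a, b} : Set G) = ⊤ := by
        apply Cfsg.Agent.PGroup.eq_top_of_sup_frattini
        rw [eq_top_iff]
        intro x _
        obtain ⟨i, hi⟩ := Subgroup.mem_zpowers_iff.1 (hqb (φ x))
        rw [← hbφ, ← map_zpow] at hi
        obtain ⟨j, hj⟩ := Subgroup.mem_zpowers_iff.1 (QuotientGroup.eq.1 hi)
        rw [← map_zpow, ← map_inv, ← map_mul] at hj
        have hx2 : (a ^ j)⁻¹ * ((b ^ i)⁻¹ * x) ∈ commutator G := QuotientGroup.eq.1 hj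
        have hxe : x = b ^ i * (a ^ j * ((a ^ j)⁻¹ * ((b ^ i)⁻¹ * x))) := by
          rw [mul_inv_cancel_left, mul_inv_cancel_left]
        rw [hxe]
        exact mul_mem (Subgroup.mem_sup_left (Subgroup.zpow_mem _ (Subgroup.subset_closure (by simp)) i))
          (mul_mem (Subgroup.mem_sup_left (Subgroup.zpow_mem _ (Subgroup.subset_closure (by simp)) j))
            (Subgroup.mem_sup_right (Cfsg.Agent.PGroup.commutator_le_frattini hG hx2)))
      set c := ⁅b, a⁆ with hc
      have hcG' : c ∈ commutator G :=
        Subgroup.commutator_mem_commutator (Subgroup.mem_top b) (Subgroup.mem_top a)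
      haveI hcn : (Subgroup.zpowers c).Normal := ⟨fun w hw g => by
        rw [hcen w (Subgroup.zpowers_le.2 hcG' hw) g, mul_inv_cancel_right]; exact hw⟩
      have hle : commutator G ≤ Subgroup.zpowers c := by
        refine commutator_le_of_generators hgen ?_
        intro p hp q hq
        simp only [Set.mem_insert_iff, Set.mem_singleton_iff] at hp hq
        rcases hp with rfl | rfl <;> rcases hq with rfl | rfl
        · rw [commutatorElement_self]; exact one_mem _
        · rw [← commutatorElement_inv]; exact inv_mem (Subgroup.mem_zpowers c)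
        · exact Subgroup.mem_zpowers c
        · rw [commutatorElement_self]; exact one_mem _
      have hc1 : c ≠ 1 := fun e => hG'ne (by rw [eq_bot_iff]; rw [e, Subgroup.zpowers_one_eq_bot] at hle; exact hle)
      have hcases : ∀ w ∈ commutator G, w = 1 ∨ w = c := by
        intro w hw
        obtain ⟨i, rfl⟩ := Subgroup.mem_zpowers_iff.1 (hle hw)
        have ho : orderOf c = 2 := orderOf_eq_prime (hsq c hcG') hc1
        rw [← zpow_mod_orderOf, ho]
        rcases Int.emod_two_eq_zero_or_one i with e | e <;> rw [Nat.cast_ofNat, e] <;> simp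
      have ham : a ^ (2 ^ m) ∈ commutator G := (QuotientGroup.eq_one_iff _).1 (by
        show π (a ^ (2 ^ m)) = 1
        rw [map_pow, ← hm, pow_orderOf_eq_one])
      have hswap : Subgroup.closure ({b, a} : Set G) = ⊤ := by rw [Set.pair_comm]; exact hgen
      rcases hcases _ ham with ha1 | hac
      swap
      · refine isMetacyclic_of_two hgen (hle.trans (Subgroup.zpowers_le.2 ?_))
        rw [← hac]; exact Subgroup.npow_mem_zpowers a _
      rcases hcases _ hbn with hb1 | hbc
      swap
      · refine isMetacyclic_of_two hswap (hle.trans (Subgroup.zpowers_le.2 ?_))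
        rw [← hbc]; exact Subgroup.npow_mem_zpowers b _
      have hn0 : n ≠ 0 := by
        intro h0
        rw [h0, pow_zero, pow_one] at hb1
        exact hc1 (by rw [hc, hb1, commutatorElement_one_left])
      by_cases hm2 : m ≤ 1
      · -- the dihedral group of order eight
        have hm1 : m = 1 := by omega
        have hn1 : n = 1 := by omega
        rw [hm1, pow_one, pow_two] at ha1
        rw [hn1, pow_one, pow_two] at hb1
        have hia : a⁻¹ = a := inv_eq_of_mul_eq_one_right ha1
        have hib : b⁻¹ = b := inv_eq_of_mul_eq_one_right hb1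
        refine isMetacyclic_of_two (g := b * a) (h := a) ?_ (hle.trans (Subgroup.zpowers_le.2 ?_))
        · rw [← top_le_iff, ← hgen, Subgroup.closure_le]
          intro w hw
          simp only [Set.mem_insert_iff, Set.mem_singleton_iff] at hw
          rcases hw with rfl | rfl
          · exact Subgroup.subset_closure (by simp)
          · have h1 : w * a ∈ Subgroup.closure ({w * a, a} : Set G) := Subgroup.subset_closure (by simp)
            have h2 : a ∈ Subgroup.closure ({w * a, a} : Set G) := Subgroup.subset_closure (by simp)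
            have := mul_mem h1 (inv_mem h2)
            rwa [mul_inv_cancel_right] at this
        · refine Subgroup.mem_zpowers_iff.2 ⟨2, ?_⟩
          rw [hc, commutatorElement_def, hia, hib, zpow_two, mul_assoc b a, ← mul_assoc, ← mul_assoc]
      exfalso
      set a' := a ^ (2 ^ (m - 1)) with ha'
      set b' := b ^ (2 ^ (n - 1)) with hb'
      have hm' : 2 ^ (m - 1) = 2 * 2 ^ (m - 2) := by rw [← pow_succ', show m - 2 + 1 = m - 1 by omega]
      have ha'c : ∀ g : G, g * a' = a' * g := by
        intro g
        have h1 : g * (a * a) * g⁻¹ = a * a := by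
          have e : g * a * g⁻¹ = ⁅g, a⁆ * a := by simp [commutatorElement_def]
          have hg : ⁅g, a⁆ ∈ commutator G :=
            Subgroup.commutator_mem_commutator (Subgroup.mem_top g) (Subgroup.mem_top a)
          rw [show g * (a * a) * g⁻¹ = (g * a * g⁻¹) * (g * a * g⁻¹) by group, e, mul_assoc,
            ← mul_assoc a, hcen _ hg a, mul_assoc _ a a, ← mul_assoc, ← pow_two, hsq _ hg, one_mul]
        have h2 : Commute g (a * a) := mul_inv_eq_iff_eq_mul.1 h1
        rw [ha', hm', pow_mul, pow_two]
        exact (h2.pow_right _).eq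
      refine not_pRankLE_two (s := c) (t := a') (w := b') ?_ ?_ ?_ ?_ ?_ ?_ hc1 ?_ ?_ hrG
      · rw [← pow_two]; exact hsq c hcG'
      · rw [ha', ← pow_two, ← pow_mul, ← pow_succ, show m - 1 + 1 = m by omega, ha1]
      · rw [hb', ← pow_two, ← pow_mul, ← pow_succ, show n - 1 + 1 = n by omega, hb1]
      · exact (hcen c hcG' a').symm
      · exact (hcen c hcG' b').symm
      · exact (ha'c b').symm
      · intro e
        have h1 : π a' = 1 := (QuotientGroup.eq_one_iff _).2 (Subgroup.zpowers_le.2 hcG' e)
        rw [ha', map_pow, ← orderOf_dvd_iff_pow_eq_one, hm,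
          Nat.pow_dvd_pow_iff_le_right (by norm_num : 1 < 2)] at h1
        omega
      · intro e
        have hker : Subgroup.closure ({c, a'} : Set G) ≤ φ.ker := by
          rw [Subgroup.closure_le]
          intro w hw
          simp only [Set.mem_insert_iff, Set.mem_singleton_iff] at hw
          rcases hw with rfl | rfl
          · show φ _ = 1
            show QuotientGroup.mk' _ (π _) = 1
            rw [show π c = 1 from (QuotientGroup.eq_one_iff _).2 hcG', map_one]
          · show φ _ = 1
            show QuotientGroup.mk' _ (π _) = 1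
            rw [map_pow π]
            exact (QuotientGroup.eq_one_iff _).2 (Subgroup.npow_mem_zpowers _ _)
        have h1 : φ b' = 1 := hker e
        rw [hb', map_pow, hbφ, ← orderOf_dvd_iff_pow_eq_one, hn,
          Nat.pow_dvd_pow_iff_le_right (by norm_num : 1 < 2)] at h1
        omega

/-- A 2-group of sectional rank at most two is metacyclic. -/
theorem isMetacyclic_of_sectional {G : Type u} [Group G] [Finite G] (hG : IsPGroup 2 G)
    (hr : Cfsg.SectionalPRankLE 2 2 G) : Cfsg.IsMetacyclic G :=
  isMetacyclic_aux _ G le_rfl hG hr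

end Cfsg.Agent.TwoGroups
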